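import Mathlib

/-!
# Frobenius groups `2^k : p` of small index in their intersection with a subgroup (helper30, S5719)

`Fr E u p k`: `E` of exponent 2 and order `2 ^ k`, `u` of odd prime order `p` acts on `E` without fixed points and
irreducibly. `Fr.key`: if `|X : X ∩ A| < 2 ^ k` for `X = E ⟨u⟩`, then `E ≤ A` or `p 2 ^ k ≤ |X : X ∩ A| |A ∩ E|`.
-/

set_option autoImplicit false

namespace Cfsg.Agent.H30.Fxy

open Subgroup

variable {G : Type*} [Group G]

/-- `E : ⟨u⟩` is a Frobenius group with irreducible action. -/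
structure Fr (E : Subgroup G) (u : G) (p k : ℕ) : Prop where
  prime : p.Prime
  ne_two : p ≠ 2
  sq : ∀ x ∈ E, x * x = 1
  card : Nat.card E = 2 ^ k
  norm : ∀ x ∈ E, u * x * u⁻¹ ∈ E
  ord : orderOf u = p
  fix : ∀ x ∈ E, u * x = x * u → x = 1
  irr : ∀ j, 0 < j → j < k → ¬ p ∣ 2 ^ j - 1

variable {E : Subgroup G} {u : G} {p k : ℕ}

theorem Fr.inv (h : Fr E u p k) {x : G} (hx : x ∈ E) : x⁻¹ = x := inv_eq_of_mul_eq_one_right (h.sq x hx)

theorem Fr.comm (h : Fr E u p k) {x y : G} (hx : x ∈ E) (hy : y ∈ E) : x * y = y * x := by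
  have h1 := h.inv (E.mul_mem hx hy)
  rw [mul_inv_rev, h.inv hx, h.inv hy] at h1
  exact h1.symm

theorem Fr.normn (h : Fr E u p k) (n : ℕ) {x : G} (hx : x ∈ E) : u ^ n * x * (u ^ n)⁻¹ ∈ E := by
  induction n with
  | zero => simpa using hx
  | succ n ih =>
    have h1 := h.norm _ ih
    rwa [show u * (u ^ n * x * (u ^ n)⁻¹) * u⁻¹ = u ^ (n + 1) * x * (u ^ (n + 1))⁻¹ by
      rw [pow_succ']; group] at h1

theorem Fr.pos (h : Fr E u p k) : 0 < p := h.prime.pos

theorem Fr.pow_p (h : Fr E u p k) : u ^ p = 1 := by rw [← h.ord]; exact pow_orderOf_eq_one u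

theorem Fr.normi (h : Fr E u p k) (n : ℕ) {x : G} (hx : x ∈ E) : (u ^ n)⁻¹ * x * u ^ n ∈ E := by
  have h1 : (u ^ n)⁻¹ = u ^ ((p - 1) * n) := by
    rw [inv_eq_iff_mul_eq_one, ← pow_add, show n + (p - 1) * n = p * n by
      have := h.pos
      obtain ⟨m, rfl⟩ : ∃ m, p = m + 1 := ⟨p - 1, by omega⟩
      simp only [Nat.add_sub_cancel]
      ring, pow_mul, h.pow_p, one_pow]
  have h2 := h.normn ((p - 1) * n) hx
  rw [← h1, inv_inv] at h2
  exact h2

/-- the powers of `u` in `E` -/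
theorem Fr.pow_eq_one (h : Fr E u p k) {n : ℕ} (hn : u ^ n ∈ E) : u ^ n = 1 := by
  have h1 : (u ^ n) ^ 2 = 1 := by rw [pow_two]; exact h.sq _ hn
  have h2 : (u ^ n) ^ p = 1 := by rw [← pow_mul, mul_comm, pow_mul, h.pow_p, one_pow]
  have h3 : orderOf (u ^ n) ∣ 2 := orderOf_dvd_of_pow_eq_one h1
  have h4 : orderOf (u ^ n) ∣ p := orderOf_dvd_of_pow_eq_one h2
  have h5 : Nat.Coprime 2 p := (Nat.coprime_primes Nat.prime_two h.prime).2 (Ne.symm h.ne_two)
  have h6 : orderOf (u ^ n) ∣ 1 := by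
    rw [← h5.gcd_eq_one]
    exact Nat.dvd_gcd h3 h4
  exact orderOf_eq_one_iff.1 (Nat.dvd_one.1 h6)

/-- an invariant subgroup is trivial or everything -/
theorem Fr.inv_or (h : Fr E u p k) [Finite G] {W : Subgroup G} (hW : W ≤ E) (hi : ∀ x ∈ W, u * x * u⁻¹ ∈ W) :
    W = ⊥ ∨ W = E := by
  classical
  have hp : Fact p.Prime := ⟨h.prime⟩
  let f : Function.End W := fun x => ⟨u * x * u⁻¹, hi x x.2⟩
  have hf : ∀ n : ℕ, ∀ x : W, (((f ^ n) x : W) : G) = u ^ n * x * (u ^ n)⁻¹ := by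
    intro n
    induction n with
    | zero =>
      intro x
      change (x : G) = _
      simp
    | succ n ih =>
      intro x
      rw [pow_succ']
      change (u * (((f ^ n) x : W) : G) * u⁻¹) = _
      rw [ih, pow_succ']
      group
  have hfp : f ^ p ^ 1 = 1 := by
    funext x
    apply Subtype.ext
    rw [hf, pow_one, h.pow_p]
    change _ = (x : G)
    simp
  have : Fintype W := Fintype.ofFinite _
  have h1 := Equiv.Perm.card_fixedPoints_modEq hfp
  have h2 : Fintype.card (Function.fixedPoints f) = 1 := by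
    rw [Fintype.card_eq_one_iff]
    refine ⟨⟨1, ?_⟩, ?_⟩
    · apply Subtype.ext
      change u * ((1 : W) : G) * u⁻¹ = ((1 : W) : G)
      simp
    · rintro ⟨y, hy⟩
      apply Subtype.ext
      apply Subtype.ext
      have hy' : u * (y : G) * u⁻¹ = y := congrArg Subtype.val hy
      exact h.fix _ (hW y.2) (mul_inv_eq_iff_eq_mul.1 hy')
  rw [h2] at h1
  have h3 : Nat.card W = Fintype.card W := Nat.card_eq_fintype_card
  have h4 : Nat.card W ∣ 2 ^ k := by rw [← h.card]; exact card_dvd_of_le hW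
  obtain ⟨j, hj, he⟩ := (Nat.dvd_prime_pow Nat.prime_two).1 h4
  rw [← h3, he] at h1
  rcases Nat.eq_zero_or_pos j with h5 | h5
  · left
    rw [h5, pow_zero] at he
    exact Subgroup.card_eq_one.1 he
  · right
    rcases Nat.lt_or_ge j k with h6 | h6
    · exfalso
      apply h.irr j h5 h6
      exact (Nat.modEq_iff_dvd' Nat.one_le_two_pow).1 h1.symm
    · have h7 : j = k := by omega
      apply eq_of_le_of_card_ge hW
      rw [he, h7, h.card]

/-- the group `E ⟨u⟩` -/
def Fr.X (h : Fr E u p k) : Subgroup G where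
  carrier := {x | ∃ i : ℕ, ∃ e ∈ E, x = u ^ i * e}
  one_mem' := ⟨0, 1, one_mem _, by simp⟩
  mul_mem' := by
    rintro _ _ ⟨i, e, he, rfl⟩ ⟨j, f, hf, rfl⟩
    refine ⟨i + j, (u ^ j)⁻¹ * e * u ^ j * f, mul_mem (h.normi j he) hf, ?_⟩
    rw [pow_add]
    group
  inv_mem' := by
    rintro _ ⟨i, e, he, rfl⟩
    have h1 : (u ^ i)⁻¹ = u ^ ((p - 1) * i) := by
      rw [inv_eq_iff_mul_eq_one, ← pow_add, show i + (p - 1) * i = p * i by
        have := h.pos
        obtain ⟨m, rfl⟩ : ∃ m, p = m + 1 := ⟨p - 1, by omega⟩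
        simp only [Nat.add_sub_cancel]
        ring, pow_mul, h.pow_p, one_pow]
    refine ⟨(p - 1) * i, u ^ i * e⁻¹ * (u ^ i)⁻¹, h.normn i (inv_mem he), ?_⟩
    rw [← h1]
    group

theorem Fr.mem_X (h : Fr E u p k) {x : G} : x ∈ h.X ↔ ∃ i : ℕ, ∃ e ∈ E, x = u ^ i * e := Iff.rfl

theorem Fr.le_X (h : Fr E u p k) : E ≤ h.X := fun x hx => ⟨0, x, hx, by simp⟩

theorem Fr.u_mem_X (h : Fr E u p k) : u ∈ h.X := ⟨1, 1, one_mem _, by simp⟩

theorem Fr.card_X (h : Fr E u p k) [Finite G] : p * 2 ^ k ≤ Nat.card h.X := by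
  let f : Fin p × E → h.X := fun q => ⟨u ^ (q.1 : ℕ) * q.2, q.1, q.2, q.2.2, rfl⟩
  have hf : Function.Injective f := by
    rintro ⟨i, e⟩ ⟨j, e'⟩ hq
    have h1 : u ^ (i : ℕ) * (e : G) = u ^ (j : ℕ) * e' := congrArg Subtype.val hq
    have h2 : ∀ i j : ℕ, i < p → j < p → i ≤ j → ∀ e e' : E, u ^ i * (e : G) = u ^ j * e' → i = j := by
      intro i j hi hj hij e e' h1
      have h3 : u ^ (j - i) ∈ E := by
        have h4 : u ^ (j - i) = e * (e' : G)⁻¹ := by
          rw [eq_mul_inv_iff_mul_eq]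
          have h5 : u ^ j = u ^ i * u ^ (j - i) := by rw [← pow_add]; congr 1; omega
          rw [h5, mul_assoc] at h1
          exact (mul_left_cancel h1).symm
        rw [h4]
        exact mul_mem e.2 (inv_mem e'.2)
      have h6 := h.pow_eq_one h3
      have h7 : p ∣ j - i := by rw [← h.ord]; exact orderOf_dvd_of_pow_eq_one h6
      have h8 := Nat.eq_zero_of_dvd_of_lt h7 (by omega)
      omega
    have h3 : (i : ℕ) = j := by
      rcases Nat.le_total (i : ℕ) j with h4 | h4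
      · exact h2 i j i.2 j.2 h4 e e' h1
      · exact (h2 j i j.2 i.2 h4 e' e h1.symm).symm
    have h4 : i = j := Fin.ext h3
    subst h4
    exact Prod.ext rfl (Subtype.ext (mul_left_cancel h1))
  have h1 := Nat.card_le_card_of_injective f hf
  rwa [Nat.card_prod, h.card, Nat.card_eq_fintype_card, Fintype.card_fin] at h1

/-- powers in `X` -/
theorem Fr.pow_X (h : Fr E u p k) {i : ℕ} {e : G} (he : e ∈ E) (m : ℕ) :
    ∃ f ∈ E, (u ^ i * e) ^ m = u ^ (i * m) * f := by
  induction m with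
  | zero => exact ⟨1, one_mem _, by simp⟩
  | succ m ih =>
    obtain ⟨f, hf, h1⟩ := ih
    refine ⟨(u ^ i)⁻¹ * f * u ^ i * e, mul_mem (h.normi i hf) he, ?_⟩
    rw [pow_succ, h1, Nat.mul_succ, pow_add]
    group

/-- **The key lemma.** -/
theorem Fr.key (h : Fr E u p k) [Finite G] {A : Subgroup G} (h0 : A.relIndex h.X < 2 ^ k) :
    E ≤ A ∨ p * 2 ^ k ≤ A.relIndex h.X * Nat.card (A ⊓ E : Subgroup G) := by
  have hrel : ∀ B : Subgroup G, Nat.card B = A.relIndex B * Nat.card (A ⊓ B : Subgroup G) := by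
    intro B
    rw [Subgroup.relIndex, ← Subgroup.index_mul_card (A.subgroupOf B)]
    congr 1
    rw [← Subgroup.inf_subgroupOf_right, Nat.card_congr (Subgroup.subgroupOfEquivOfLe (inf_le_right : A ⊓ B ≤ B)).toEquiv]
  by_cases hc : ∃ e ∈ E, u * e ∈ A
  · left
    obtain ⟨e, he, hA⟩ := hc
    rcases h.inv_or (W := A ⊓ E) inf_le_right (by
      intro x hx
      refine ⟨?_, h.norm x hx.2⟩
      have h1 := A.mul_mem (A.mul_mem hA hx.1) (A.inv_mem hA)
      have h2 : u * e * x * (u * e)⁻¹ = u * x * u⁻¹ := by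
        rw [mul_assoc u e x, h.comm he hx.2]
        group
      rwa [h2] at h1) with h1 | h1
    · exfalso
      have h2 := hrel E
      rw [h1, card_bot, mul_one, h.card] at h2
      have h3 : A.relIndex h.X ≠ 0 := (A.subgroupOf h.X).index_ne_zero_of_finite
      have h4 := relIndex_le_of_le_right h.le_X h3
      omega
    · rw [← h1]; exact inf_le_left
  · right
    have h1 : A ⊓ h.X ≤ E := by
      rintro x ⟨hxA, i, e, he, rfl⟩
      by_cases hi : p ∣ i
      · obtain ⟨m, rfl⟩ := hi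
        rw [pow_mul, h.pow_p, one_pow, one_mul]
        exact he
      · exfalso
        have h2 : Nat.Coprime i p := ((Nat.Prime.coprime_iff_not_dvd h.prime).2 hi).symm
        obtain ⟨m, hm⟩ := Nat.exists_mul_mod_eq_one_of_coprime h2 h.prime.one_lt
        obtain ⟨f, hf, h3⟩ := h.pow_X (i := i) he m
        apply hc
        refine ⟨f, hf, ?_⟩
        have h4 : u ^ (i * m) = u := by
          rw [← Nat.div_add_mod (i * m) p, hm.2, pow_add, pow_mul, h.pow_p, one_pow, one_mul, pow_one]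
        rw [h4] at h3
        rw [← h3]
        exact A.pow_mem hxA m
    have h2 : A ⊓ h.X = A ⊓ E := le_antisymm (le_inf inf_le_left h1) (inf_le_inf_left A h.le_X)
    rw [← h2, ← hrel]
    exact h.card_X

/-- index less than `2 p` -/
theorem Fr.le_of_lt (h : Fr E u p k) [Finite G] {A : Subgroup G} (h0 : A.relIndex h.X < 2 ^ k)
    (h1 : A.relIndex h.X < 2 * p) : E ≤ A := by
  rcases h.key h0 with h2 | h2
  · exact h2
  · have h3 : Nat.card (A ⊓ E : Subgroup G) ∣ 2 ^ k := by rw [← h.card]; exact card_dvd_of_le inf_le_right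
    obtain ⟨j, hj, he⟩ := (Nat.dvd_prime_pow Nat.prime_two).1 h3
    rcases Nat.lt_or_ge j k with h4 | h4
    · exfalso
      have h5 : 2 * 2 ^ j ≤ 2 ^ k := by
        rw [← pow_succ']
        exact Nat.pow_le_pow_right (by norm_num) h4
      rw [he] at h2
      have h6 : 0 < 2 ^ j := by positivity
      have h7 : A.relIndex h.X * 2 ^ j < 2 * p * 2 ^ j := Nat.mul_lt_mul_of_pos_right h1 h6
      have h8 : 2 * p * 2 ^ j ≤ p * 2 ^ k := by
        calc 2 * p * 2 ^ j = p * (2 * 2 ^ j) := by ring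
          _ ≤ _ := Nat.mul_le_mul_left _ h5
      omega
    · have h5 : A ⊓ E = E := eq_of_le_of_card_ge inf_le_right (by rw [he, h.card]; exact Nat.pow_le_pow_right (by norm_num) h4)
      rw [← h5]
      exact inf_le_left

/-- index less than `4 p` -/
theorem Fr.half (h : Fr E u p k) [Finite G] {A : Subgroup G} (h0 : A.relIndex h.X < 2 ^ k)
    (h1 : A.relIndex h.X < 4 * p) : 2 ^ k ≤ 2 * Nat.card (A ⊓ E : Subgroup G) := by
  rcases h.key h0 with h2 | h2
  · rw [inf_eq_right.2 h2, h.card]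
    omega
  · have h3 : Nat.card (A ⊓ E : Subgroup G) ∣ 2 ^ k := by rw [← h.card]; exact card_dvd_of_le inf_le_right
    obtain ⟨j, hj, he⟩ := (Nat.dvd_prime_pow Nat.prime_two).1 h3
    rw [he] at h2 ⊢
    by_contra hcon
    have h4 : 2 ^ (j + 1) < 2 ^ k := by rw [pow_succ']; omega
    have h5 : j + 1 < k := (Nat.pow_lt_pow_iff_right (by norm_num)).1 h4
    have h6 : 4 * 2 ^ j ≤ 2 ^ k := by
      calc 4 * 2 ^ j = 2 ^ (j + 2) := by ring
        _ ≤ _ := Nat.pow_le_pow_right (by norm_num) h5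
    have h7 : 0 < 2 ^ j := by positivity
    have h8 : A.relIndex h.X * 2 ^ j < 4 * p * 2 ^ j := Nat.mul_lt_mul_of_pos_right h1 h7
    have h9 : 4 * p * 2 ^ j ≤ p * 2 ^ k := by
      calc 4 * p * 2 ^ j = p * (4 * 2 ^ j) := by ring
        _ ≤ _ := Nat.mul_le_mul_left _ h6
    omega

end Cfsg.Agent.H30.Fxy
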